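import Groth.Agent.DCohGammaZ.Basic
import Groth.Agent.FlatBCD.Derived
import Groth.Agent.FMTool.BC
import Groth.Agent.ShriekAffine.Fibre
import Groth.Agent.RelPCS.FlatBase

/-!
# Local cohomology commutes with flat pullback
-/

set_option autoImplicit false
set_option backward.isDefEq.respectTransparency false
set_option backward.isDefEq.respectTransparency.types false
set_option linter.style.haveILetI false
set_option linter.unusedSectionVars false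

universe u

open CategoryTheory Limits Pretriangulated AlgebraicGeometry

attribute [local instance] HasDerivedCategory.standard

namespace Groth.Agent.GammaPull

open Groth.Agent.DQCoh Groth.Agent.PerfGen Groth.Agent.DCohGammaZ

variable {X Y : Scheme.{u}}

/-- for flat maps the derived pullback is naturally the plain one -/
theorem nonempty_lpull_PB (f : X ⟶ Y) [Flat f] [DCoh.HasLpull f] :
    Nonempty (DCoh.Lpull f ≅ RelPCS.PB f) := by
  haveI : ∀ K : HomotopyCategory Y.Modules (ComplexShape.up ℤ), IsIso ((FlatBCD.lpullCounit f).app K) := fun K => by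
    obtain ⟨K, rfl⟩ := HomotopyCategory.quotient_obj_surjective K
    exact FlatBCD.isIso_lpullCounit_of_flat f K
  let a : DerivedCategory.Qh ⋙ DCoh.Lpull f ≅ DerivedCategory.Qh ⋙ RelPCS.PB f :=
    @asIso _ _ _ _ (FlatBCD.lpullCounit f) (NatIso.isIso_of_isIso_app _) ≪≫
      (Scheme.Modules.pullback f).mapDerivedCategoryFactorsh.symm
  exact ⟨Localization.liftNatIso DerivedCategory.Qh (HomotopyCategory.quasiIso Y.Modules (ComplexShape.up ℤ))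
    (DerivedCategory.Qh ⋙ DCoh.Lpull f) (DerivedCategory.Qh ⋙ RelPCS.PB f) _ _ a⟩

/-- flat pullback sends triangles to triangles -/
theorem exists_lpull_triangle (f : X ⟶ Y) [Flat f] [DCoh.HasLpull f] {A B C : DCoh.D Y} {a : A ⟶ B} {b : B ⟶ C}
    {c : C ⟶ A⟦(1 : ℤ)⟧} (hT : Triangle.mk a b c ∈ distTriang (DCoh.D Y)) :
    ∃ d, Triangle.mk ((DCoh.Lpull f).map a) ((DCoh.Lpull f).map b) d ∈ distTriang (DCoh.D X) := by
  obtain ⟨η⟩ := nonempty_lpull_PB f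
  have h := (RelPCS.PB f).map_distinguished _ hT
  refine ⟨η.hom.app C ≫ (RelPCS.PB f).map c ≫ ((RelPCS.PB f).commShiftIso (1 : ℤ)).hom.app A ≫
    (η.inv.app A)⟦(1 : ℤ)⟧', isomorphic_distinguished _ h _ ?_⟩
  refine Triangle.isoMk _ _ (η.app A) (η.app B) (η.app C) (η.hom.naturality a) (η.hom.naturality b) ?_
  change (η.hom.app C ≫ (RelPCS.PB f).map c ≫ ((RelPCS.PB f).commShiftIso (1 : ℤ)).hom.app A ≫
    (η.inv.app A)⟦(1 : ℤ)⟧') ≫ (η.hom.app A)⟦(1 : ℤ)⟧' =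
    η.hom.app C ≫ (RelPCS.PB f).map c ≫ ((RelPCS.PB f).commShiftIso (1 : ℤ)).hom.app A
  simp only [Category.assoc, ← Functor.map_comp, Iso.inv_hom_id_app]
  erw [CategoryTheory.Functor.map_id, Category.comp_id]

theorem main [IsNoetherian Y] (f : X ⟶ Y) [Flat f] (U : Y.Opens) [CxOX.HasRgammaZ U.ι]
    [CxOX.HasRgammaZ (f ⁻¹ᵁ U).ι] [DCoh.HasLpull f] (K : DCoh.D Y) (hK : DCoh.IsQCohD K) :
    (∃ β : (DCoh.Lpull f).obj ((CxOX.RgammaZ U.ι).obj K) ⟶ (CxOX.RgammaZ (f ⁻¹ᵁ U).ι).obj ((DCoh.Lpull f).obj K),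
        β ≫ (CxOX.RgammaZToId (f ⁻¹ᵁ U).ι).app ((DCoh.Lpull f).obj K) =
          (DCoh.Lpull f).map ((CxOX.RgammaZToId U.ι).app K)) ∧
    ∀ β : (DCoh.Lpull f).obj ((CxOX.RgammaZ U.ι).obj K) ⟶ (CxOX.RgammaZ (f ⁻¹ᵁ U).ι).obj ((DCoh.Lpull f).obj K),
        β ≫ (CxOX.RgammaZToId (f ⁻¹ᵁ U).ι).app ((DCoh.Lpull f).obj K) =
          (DCoh.Lpull f).map ((CxOX.RgammaZToId U.ι).app K) → IsIso β := by
  haveI : Flat (f ∣_ U) := MorphismProperty.of_isPullback (P := @Flat) (isPullback_morphismRestrict f U).flip inferInstance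
  haveI : Flat ((f ⁻¹ᵁ U).ι ≫ f) := inferInstance
  haveI := KFlat.hasLpull (f ∣_ U)
  haveI := KFlat.hasLpull ((f ⁻¹ᵁ U).ι ≫ f)
  haveI := DerPush.hasRpush_sch (f ⁻¹ᵁ U).ι
  haveI := DerPush.hasRpush_sch U.ι
  obtain ⟨G, c, d, hT⟩ := exists_triangle U.ι K
  -- support of the pullback
  obtain ⟨η⟩ := nonempty_lpull_PB (f ∣_ U)
  obtain ⟨e₁⟩ := ShriekAffine.nonempty_RD_lpull (f ⁻¹ᵁ U).ι f ((f ⁻¹ᵁ U).ι ≫ f) rfl ((CxOX.RgammaZ U.ι).obj K)
  obtain ⟨e₂⟩ := ShriekAffine.nonempty_lpull_RD (f ∣_ U) U.ι ((f ⁻¹ᵁ U).ι ≫ f) (morphismRestrict_ι f U)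
    ((CxOX.RgammaZ U.ι).obj K)
  have hA : IsZero ((RD (f ⁻¹ᵁ U).ι).obj ((DCoh.Lpull f).obj ((CxOX.RgammaZ U.ι).obj K))) :=
    ((RelPCS.PB (f ∣_ U)).map_isZero (isZero_RD_RgammaZ U.ι K)).of_iso (e₁ ≪≫ e₂.symm ≪≫ η.app _)
  -- the third vertex is a direct image
  obtain ⟨d', hT'⟩ := exists_lpull_triangle f hT
  have hG : DCoh.IsQCohD G := by
    have hc : IsIso ((RD U.ι).map c) :=
      (Triangle.isZero₁_iff_isIso₂ _ ((RD U.ι).map_distinguished _ hT)).1 (isZero_RD_RgammaZ U.ι K)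
    haveI := hc
    exact isQCohD_of_iso (asIso ((RD U.ι).map c) ≪≫ asIso ((adjR U.ι).counit.app G)) (isQCohD_RD U.ι hK)
  obtain ⟨bc⟩ := FMTool.nonempty_bcNat (isPullback_morphismRestrict f U) (Or.inl inferInstance)
  let e : (DCoh.Lpull f).obj ((DCoh.Rpush U.ι).obj G) ≅
      (DCoh.Rpush (f ⁻¹ᵁ U).ι).obj ((DCoh.Lpull (f ∣_ U)).obj G) := bc.app ⟨G, hG⟩
  refine ⟨exists_lift (f ⁻¹ᵁ U).ι hA _, fun β hβ => isIso_of_triangle (f ⁻¹ᵁ U).ι hA hT' (fun B hB g => ?_) β hβ⟩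
  rw [← cancel_mono e.hom, zero_comp]
  exact hom_eq_zero (f ⁻¹ᵁ U).ι hB _

end Groth.Agent.GammaPull
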